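import Mathlib.Algebra.Lie.CartanExists
import Mathlib.Algebra.Lie.BaseChange
import Mathlib.LinearAlgebra.Charpoly.BaseChange
import Mathlib.FieldTheory.IsAlgClosed.AlgebraicClosure
import Mathlib.RingTheory.Flat.FaithfullyFlat.Algebra
import Mathlib.RingTheory.Finiteness.Nilpotent

/-!
# Rank, regular elements and Engel subalgebras under extension of the base field
-/

open scoped TensorProduct

namespace Groth.CartanRelAux

open Module LieSubalgebra

set_option linter.unusedSectionVars false

section BaseChange

variable {R : Type*} [CommRing R] {L L' : Type*} [LieRing L] [LieAlgebra R L] [LieRing L']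
  [LieAlgebra R L'] (B : Type*) [CommRing B] [Algebra R B]

/-- base change of a Lie algebra morphism -/
noncomputable def bcHom (g : L →ₗ⁅R⁆ L') : B ⊗[R] L →ₗ⁅B⁆ B ⊗[R] L' :=
  { (g : L →ₗ[R] L').baseChange B with
    map_lie' := fun {x y} => by
      change (g : L →ₗ[R] L').baseChange B ⁅x, y⁆
        = ⁅(g : L →ₗ[R] L').baseChange B x, (g : L →ₗ[R] L').baseChange B y⁆
      induction x using TensorProduct.induction_on with
      | zero => simp
      | add x₁ x₂ h₁ h₂ => simp only [add_lie, map_add, h₁, h₂]
      | tmul a l =>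
        induction y using TensorProduct.induction_on with
        | zero => simp
        | add y₁ y₂ h₁ h₂ => simp only [lie_add, map_add, h₁, h₂]
        | tmul b l' => simp }

@[simp] lemma bcHom_tmul (g : L →ₗ⁅R⁆ L') (b : B) (x : L) :
    bcHom B g (b ⊗ₜ x) = b ⊗ₜ g x := rfl

lemma bcHom_apply (g : L →ₗ⁅R⁆ L') (x : B ⊗[R] L) :
    bcHom B g x = (g : L →ₗ[R] L').baseChange B x := rfl

/-- base change of a Lie algebra isomorphism -/
noncomputable def bcEquiv (e : L ≃ₗ⁅R⁆ L') : B ⊗[R] L ≃ₗ⁅B⁆ B ⊗[R] L' :=
  { bcHom B e.toLieHom with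
    invFun := bcHom B e.symm.toLieHom
    left_inv := fun x => by
      change bcHom B e.symm.toLieHom (bcHom B e.toLieHom x) = x
      induction x using TensorProduct.induction_on with
      | zero => simp
      | add x y hx hy => simp only [map_add, hx, hy]
      | tmul b l => simp
    right_inv := fun x => by
      change bcHom B e.toLieHom (bcHom B e.symm.toLieHom x) = x
      induction x using TensorProduct.induction_on with
      | zero => simp
      | add x y hx hy => simp only [map_add, hx, hy]
      | tmul b l => simp }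

@[simp] lemma bcEquiv_tmul (e : L ≃ₗ⁅R⁆ L') (b : B) (x : L) :
    bcEquiv B e (b ⊗ₜ x) = b ⊗ₜ e x := rfl

lemma ad_one_tmul (x : L) :
    LieAlgebra.ad B (B ⊗[R] L) (1 ⊗ₜ x) = (LieAlgebra.ad R L x).baseChange B := by
  exact LieModule.toEnd_baseChange R B L L x

variable (C : Type*) [CommRing C] [Algebra R C] [Algebra B C] [IsScalarTower R B C]

/-- `C ⊗_B (B ⊗_R L) ≅ C ⊗_R L` as Lie algebras. -/
noncomputable def cancelLie : C ⊗[B] (B ⊗[R] L) ≃ₗ⁅C⁆ C ⊗[R] L :=
  { TensorProduct.AlgebraTensorModule.cancelBaseChange R B C C L with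
    map_lie' := fun {x y} => by
      change TensorProduct.AlgebraTensorModule.cancelBaseChange R B C C L ⁅x, y⁆
        = ⁅TensorProduct.AlgebraTensorModule.cancelBaseChange R B C C L x,
           TensorProduct.AlgebraTensorModule.cancelBaseChange R B C C L y⁆
      induction x using TensorProduct.induction_on with
      | zero =>
        rw [map_zero]
        exact (congrArg _ (zero_lie y)).trans ((map_zero _).trans (zero_lie _).symm)
      | add x₁ x₂ h₁ h₂ =>
        refine (congrArg _ (add_lie x₁ x₂ y)).trans ?_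
        rw [map_add, h₁, h₂, map_add]
        exact (add_lie _ _ _).symm
      | tmul c z =>
        induction y using TensorProduct.induction_on with
        | zero =>
          rw [map_zero]
          exact (congrArg _ (lie_zero (c ⊗ₜ[B] z))).trans ((map_zero _).trans (lie_zero _).symm)
        | add y₁ y₂ h₁ h₂ =>
          refine (congrArg _ (lie_add (c ⊗ₜ[B] z) y₁ y₂)).trans ?_
          rw [map_add, h₁, h₂, map_add]
          exact (lie_add _ _ _).symm
        | tmul d w =>
          rw [LieAlgebra.ExtendScalars.bracket_tmul]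
          induction z using TensorProduct.induction_on with
          | zero => simp
          | add z₁ z₂ h₁ h₂ =>
            simp only [TensorProduct.tmul_add, add_lie, map_add, h₁, h₂]
          | tmul a l =>
            induction w using TensorProduct.induction_on with
            | zero => simp
            | add w₁ w₂ h₁ h₂ =>
              simp only [TensorProduct.tmul_add, lie_add, map_add, h₁, h₂]
            | tmul b l' =>
              simp only [LieAlgebra.ExtendScalars.bracket_tmul,
                TensorProduct.AlgebraTensorModule.cancelBaseChange_tmul, smul_mul_smul_comm] }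

@[simp] lemma cancelLie_tmul (c : C) (b : B) (x : L) :
    cancelLie (R := R) B C (c ⊗ₜ (b ⊗ₜ x)) = (b • c) ⊗ₜ x := rfl

end BaseChange

section Field

attribute [local instance 100] LieRing.ofAssociativeRing

lemma natTrailingDegree_map_injective {R S : Type*} [CommRing R] [CommRing S] (f : R →+* S)
    (hf : Function.Injective f) (p : Polynomial R) (hp : p ≠ 0) :
    (p.map f).natTrailingDegree = p.natTrailingDegree := by
  apply le_antisymm
  · apply Polynomial.natTrailingDegree_le_of_ne_zero
    rw [Polynomial.coeff_map, map_ne_zero_iff f hf]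
    exact Polynomial.trailingCoeff_nonzero_iff_nonzero.mpr hp
  · refine Polynomial.le_natTrailingDegree ((Polynomial.map_ne_zero_iff hf).mpr hp) fun m hm => ?_
    rw [Polynomial.coeff_map, Polynomial.coeff_eq_zero_of_lt_natTrailingDegree hm, map_zero]

variable {K : Type*} [Field K] {M M' : Type*} [LieRing M] [LieAlgebra K M] [Module.Finite K M]
  [LieRing M'] [LieAlgebra K M'] [Module.Finite K M']

lemma ad_equiv (e : M ≃ₗ⁅K⁆ M') (x : M) :
    LieAlgebra.ad K M' (e x) = e.toLinearEquiv.conj (LieAlgebra.ad K M x) := by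
  ext y
  rw [LinearEquiv.conj_apply_apply]
  change ⁅e x, y⁆ = e ⁅x, e.symm y⁆
  rw [LieEquiv.map_lie, LieEquiv.apply_symm_apply]

lemma finrank_engel_equiv (e : M ≃ₗ⁅K⁆ M') (x : M) :
    finrank K (engel K (e x)) = finrank K (engel K x) := by
  rw [LieAlgebra.finrank_engel, LieAlgebra.finrank_engel, ad_equiv, LinearEquiv.charpoly_conj]

lemma rank_le_rank_of_infinite [Infinite K] (e : M ≃ₗ⁅K⁆ M') :
    LieAlgebra.rank K M' ≤ LieAlgebra.rank K M := by
  obtain ⟨x, hx⟩ := LieAlgebra.exists_isRegular K M
  rw [← (LieAlgebra.isRegular_iff_finrank_engel_eq_rank K x).mp hx, ← finrank_engel_equiv e]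
  exact LieAlgebra.rank_le_finrank_engel K _

/-- rank is invariant under extension of the base field -/
lemma rank_baseChange (K' : Type*) [Field K'] [Algebra K K'] :
    LieAlgebra.rank K' (K' ⊗[K] M) = LieAlgebra.rank K M := by
  classical
  let b := Module.Free.chooseBasis K M
  have hφ : (LieAlgebra.ad K' (K' ⊗[K] M)).toLinearMap =
      LinearMap.tensorProduct K K' M M ∘ₗ (LieAlgebra.ad K M).toLinearMap.baseChange K' := by
    ext x y
    simp [LinearMap.tensorProduct]
  rw [LieAlgebra.rank_eq_natTrailingDegree K' (K' ⊗[K] M) (Algebra.TensorProduct.basis K' b),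
    LieAlgebra.rank_eq_natTrailingDegree K M b, hφ, LinearMap.polyCharpoly_baseChange]
  exact natTrailingDegree_map_injective _
    (MvPolynomial.map_injective _ (algebraMap K K').injective) _ (LinearMap.polyCharpoly_ne_zero _ _)

lemma isRegular_one_tmul_iff (K' : Type*) [Field K'] [Algebra K K'] (x : M) :
    LieAlgebra.IsRegular K' ((1 : K') ⊗ₜ[K] x) ↔ LieAlgebra.IsRegular K x := by
  rw [LieAlgebra.isRegular_def, LieAlgebra.isRegular_def, rank_baseChange, ad_one_tmul,
    LinearMap.charpoly_baseChange, Polynomial.coeff_map, map_ne_zero]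

lemma rank_eq_of_equiv (e : M ≃ₗ⁅K⁆ M') : LieAlgebra.rank K M = LieAlgebra.rank K M' := by
  rw [← rank_baseChange (K := K) (M := M) (AlgebraicClosure K),
    ← rank_baseChange (K := K) (M := M') (AlgebraicClosure K)]
  exact le_antisymm (rank_le_rank_of_infinite (bcEquiv (AlgebraicClosure K) e).symm)
    (rank_le_rank_of_infinite (bcEquiv (AlgebraicClosure K) e))

lemma isRegular_equiv (e : M ≃ₗ⁅K⁆ M') (x : M) :
    LieAlgebra.IsRegular K (e x) ↔ LieAlgebra.IsRegular K x := by
  rw [LieAlgebra.isRegular_iff_finrank_engel_eq_rank, LieAlgebra.isRegular_iff_finrank_engel_eq_rank,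
    finrank_engel_equiv, rank_eq_of_equiv e]

lemma engel_smul {c : K} (hc : c ≠ 0) (x : M) : engel K (c • x) = engel K x := by
  ext y
  simp [mem_engel_iff, map_smul, smul_pow, hc]

lemma isRegular_smul {c : K} (hc : c ≠ 0) (x : M) :
    LieAlgebra.IsRegular K (c • x) ↔ LieAlgebra.IsRegular K x := by
  rw [LieAlgebra.isRegular_iff_finrank_engel_eq_rank, LieAlgebra.isRegular_iff_finrank_engel_eq_rank,
    engel_smul hc]

/-- The Engel subalgebra of a regular element is nilpotent (any field). -/
lemma isNilpotent_engel_of_isRegular (x : M) (hx : LieAlgebra.IsRegular K x) :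
    LieRing.IsNilpotent (engel K x) := by
  let K' := AlgebraicClosure K
  let x' : K' ⊗[K] M := 1 ⊗ₜ x
  have hx' : LieAlgebra.IsRegular K' x' := (isRegular_one_tmul_iff K' x).mpr hx
  have hnil : LieRing.IsNilpotent (engel K' x') := by
    apply isNilpotent_of_forall_le_engel
    intro y hy
    let Ex : {engel K' z | z ∈ engel K' x'} := ⟨engel K' x', x', self_mem_engel _ _, rfl⟩
    suffices IsBot Ex from @this ⟨engel K' y, y, hy, rfl⟩
    apply LieAlgebra.engel_isBot_of_isMin
      (Cardinal.natCast_le_aleph0.trans <| Cardinal.infinite_iff.mp inferInstance) (engel K' x') Ex le_rfl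
    rintro ⟨_, y, hy, rfl⟩ hyx
    suffices finrank K' (engel K' x') ≤ finrank K' (engel K' y) by
      suffices engel K' y = engel K' x' from this.ge
      apply LieSubalgebra.toSubmodule_injective
      exact Submodule.eq_of_le_of_finrank_le hyx this
    rw [(LieAlgebra.isRegular_iff_finrank_engel_eq_rank K' x').mp hx']
    apply LieAlgebra.rank_le_finrank_engel
  have hmem : ∀ y : engel K x, (1 : K') ⊗ₜ[K] (y : M) ∈ engel K' x' := by
    rintro ⟨y, hy⟩
    rw [mem_engel_iff] at hy ⊢
    obtain ⟨n, hn⟩ := hy
    exact ⟨n, by rw [ad_one_tmul, ← LinearMap.baseChange_pow, LinearMap.baseChange_tmul, hn,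
      TensorProduct.tmul_zero]⟩
  let j : engel K x →ₗ⁅ℤ⁆ engel K' x' :=
    { toFun := fun y => ⟨1 ⊗ₜ (y : M), hmem y⟩
      map_add' := fun a b => Subtype.ext (by simp [TensorProduct.tmul_add])
      map_smul' := fun c a => Subtype.ext (by simp [TensorProduct.tmul_smul])
      map_lie' := fun {a b} => Subtype.ext (by simp) }
  have hj : Function.Injective j := fun a b h => by
    have h1 : (1 : K') ⊗ₜ[K] (a : M) = 1 ⊗ₜ (b : M) := congrArg Subtype.val h
    exact Subtype.ext (Module.FaithfullyFlat.tensorProduct_mk_injective (A := K) (B := K') M h1)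
  exact hj.lieAlgebra_isNilpotent (h₁ := hnil)

/-- A nilpotent self-normalizing subalgebra over an infinite field is an Engel subalgebra. -/
lemma exists_engel_eq [Infinite K] (H : LieSubalgebra K M) [LieRing.IsNilpotent H]
    (hH : ∀ z : M, (∀ y ∈ H, ⁅z, y⁆ ∈ H) → z ∈ H) : ∃ x ∈ H, engel K x = H := by
  classical
  have hle : ∀ y ∈ H, H ≤ engel K y := by
    intro y hy z hz
    obtain ⟨k, hk⟩ := LieModule.exists_forall_pow_toEnd_eq_zero K H H
    rw [mem_engel_iff]
    refine ⟨k, ?_⟩
    have := LieSubalgebra.coe_ad_pow K M H ⟨y, hy⟩ ⟨z, hz⟩ k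
    rw [← this]
    simp [LieAlgebra.ad, hk]
  have hex : ∃ n, ∃ x ∈ H, finrank K (engel K x) = n := ⟨_, 0, H.zero_mem, rfl⟩
  obtain ⟨x, hxH, hx⟩ := Nat.find_spec hex
  refine ⟨x, hxH, le_antisymm ?_ (hle x hxH)⟩
  let Ex : {engel K z | z ∈ H} := ⟨engel K x, x, hxH, rfl⟩
  have hbot : IsBot Ex := by
    apply LieAlgebra.engel_isBot_of_isMin
      (Cardinal.natCast_le_aleph0.trans <| Cardinal.infinite_iff.mp inferInstance) H Ex (hle x hxH)
    rintro ⟨_, y, hy, rfl⟩ hyx
    suffices finrank K (engel K x) ≤ finrank K (engel K y) by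
      suffices engel K y = engel K x from this.ge
      apply LieSubalgebra.toSubmodule_injective
      exact Submodule.eq_of_le_of_finrank_le hyx this
    rw [hx]
    exact Nat.find_min' hex ⟨y, hy, rfl⟩
  have hxy : ∀ y ∈ H, engel K x ≤ engel K y := fun y hy => hbot ⟨engel K y, y, hy, rfl⟩
  let E : LieSubmodule K H M :=
    { (engel K x).toSubmodule with
      lie_mem := by rintro ⟨u, hu⟩ y hy; exact (engel K x).lie_mem (hle x hxH hu) hy }
  have hnil : LieModule.IsNilpotent H E := by
    rw [LieModule.isNilpotent_iff_forall (R := K)]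
    intro u
    rw [Module.End.isNilpotent_iff_of_finite]
    intro z
    have h1 := hxy u.1 u.2 z.2
    rw [mem_engel_iff] at h1
    obtain ⟨n, hn⟩ := h1
    refine ⟨n, Subtype.ext ?_⟩
    rw [LieSubmodule.coe_toEnd_pow K H M E u z n]
    exact hn
  obtain ⟨k, hk⟩ := LieModule.IsNilpotent.nilpotent K H E
  have key : ∀ i, i ≤ k → ∀ z ∈ LieModule.lowerCentralSeries K H E (k - i), (z : M) ∈ H := by
    intro i
    induction i with
    | zero =>
      intro _ z hz
      rw [Nat.sub_zero, hk, LieSubmodule.mem_bot] at hz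
      rw [hz]
      exact H.zero_mem
    | succ i ih =>
      intro hi z hz
      apply hH
      intro y hy
      have h1 : ⁅(⟨y, hy⟩ : H), z⁆ ∈ LieModule.lowerCentralSeries K H E (k - i) := by
        rw [show k - i = (k - (i + 1)) + 1 by omega, LieModule.lowerCentralSeries_succ]
        exact LieSubmodule.lie_mem_lie (LieSubmodule.mem_top _) hz
      have h2 := ih (by omega) _ h1
      rw [← lie_skew]
      exact H.neg_mem h2
  intro z hz
  exact key k le_rfl ⟨z, hz⟩ (by simp)

end Field

end Groth.CartanRelAux
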