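import Groth.Agent.CartanRel.Relative
import Mathlib.RingTheory.Spectrum.Prime.FreeLocus
import Mathlib.RingTheory.MvPolynomial.Basic
import Mathlib.Algebra.MvPolynomial.Funext

/-!
# The generic characteristic polynomial of a finite projective Lie algebra
-/

universe u

open scoped TensorProduct
open Polynomial

namespace Groth.CartanRelAux

open Module LieSubalgebra

set_option linter.unusedSectionVars false

attribute [local instance 100] LieRing.ofAssociativeRing

section Tower

variable {A : Type u} [CommRing A] {L : Type u} [LieRing L] [LieAlgebra A L] [Module.Finite A L]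

variable (A L) in
/-- nilpotent rank of `L` at a field over `A` -/
noncomputable abbrev rk (K : Type u) [Field K] [Algebra A K] : ℕ := LieAlgebra.rank K (K ⊗[A] L)

lemma rk_tower (K K' : Type u) [Field K] [Field K'] [Algebra A K] [Algebra A K'] [Algebra K K']
    [IsScalarTower A K K'] : rk A L K' = rk A L K := by
  rw [rk, ← rank_eq_of_equiv (cancelLie (R := A) (L := L) K K'), rank_baseChange]

lemma finrank_tower (K K' : Type u) [Field K] [Field K'] [Algebra A K] [Algebra A K'] [Algebra K K']
    [IsScalarTower A K K'] :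
    finrank K' (K' ⊗[A] L) = finrank K (K ⊗[A] L) := by
  rw [← (cancelLie (R := A) (L := L) K K').toLinearEquiv.finrank_eq, Module.finrank_baseChange]

lemma isRegular_tower (K K' : Type u) [Field K] [Field K'] [Algebra A K] [Algebra A K'] [Algebra K K']
    [IsScalarTower A K K'] (a : L) :
    LieAlgebra.IsRegular K' ((1 : K') ⊗ₜ[A] a) ↔ LieAlgebra.IsRegular K ((1 : K) ⊗ₜ[A] a) := by
  rw [← isRegular_one_tmul_iff K' ((1 : K) ⊗ₜ[A] a), ← isRegular_equiv (cancelLie (R := A) (L := L) K K'),
    cancelLie_tmul, one_smul]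

variable {B : Type u} [CommRing B] [Algebra A B]

/-- The residue fields along `Spec B → Spec A`. -/
lemma exists_residueField_tower (q : PrimeSpectrum B) :
    ∃ (_ : Algebra (PrimeSpectrum.comap (algebraMap A B) q).asIdeal.ResidueField q.asIdeal.ResidueField),
      IsScalarTower A (PrimeSpectrum.comap (algebraMap A B) q).asIdeal.ResidueField q.asIdeal.ResidueField := by
  let f := Ideal.ResidueField.mapₐ (R := A) (PrimeSpectrum.comap (algebraMap A B) q).asIdeal q.asIdeal
    (Algebra.ofId A B) rfl
  let inst := f.toRingHom.toAlgebra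
  exact ⟨inst, IsScalarTower.of_algebraMap_eq fun x => (f.commutes x).symm⟩

lemma rk_comap (q : PrimeSpectrum B) :
    rk A L q.asIdeal.ResidueField
      = rk A L (PrimeSpectrum.comap (algebraMap A B) q).asIdeal.ResidueField := by
  obtain ⟨_, _⟩ := exists_residueField_tower (A := A) q
  exact rk_tower _ _

lemma rank_fibre_baseChange (q : PrimeSpectrum B) :
    LieAlgebra.rank q.asIdeal.ResidueField (q.asIdeal.ResidueField ⊗[B] (B ⊗[A] L))
      = rk A L (PrimeSpectrum.comap (algebraMap A B) q).asIdeal.ResidueField := by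
  rw [rank_eq_of_equiv (cancelLie (R := A) (L := L) B q.asIdeal.ResidueField)]
  exact rk_comap q

lemma isRegular_comap (q : PrimeSpectrum B) (a : L) :
    LieAlgebra.IsRegular q.asIdeal.ResidueField ((1 : q.asIdeal.ResidueField) ⊗ₜ[A] a) ↔
      LieAlgebra.IsRegular (PrimeSpectrum.comap (algebraMap A B) q).asIdeal.ResidueField
        ((1 : (PrimeSpectrum.comap (algebraMap A B) q).asIdeal.ResidueField) ⊗ₜ[A] a) := by
  obtain ⟨_, _⟩ := exists_residueField_tower (A := A) q
  exact isRegular_tower _ _ a

lemma isRegular_fibre_baseChange (q : PrimeSpectrum B) (a : L) :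
    LieAlgebra.IsRegular q.asIdeal.ResidueField
        ((1 : q.asIdeal.ResidueField) ⊗ₜ[B] ((1 : B) ⊗ₜ[A] a)) ↔
      LieAlgebra.IsRegular (PrimeSpectrum.comap (algebraMap A B) q).asIdeal.ResidueField
        ((1 : (PrimeSpectrum.comap (algebraMap A B) q).asIdeal.ResidueField) ⊗ₜ[A] a) := by
  rw [← isRegular_equiv (cancelLie (R := A) (L := L) B q.asIdeal.ResidueField), cancelLie_tmul, one_smul]
  exact isRegular_comap q a

end Tower

/-- A presentation of `L` as a direct summand of a finite free module. -/
structure Split (A L : Type u) [CommRing A] [AddCommGroup L] [Module A L] where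
  n : ℕ
  i : L →ₗ[A] (Fin n → A)
  π : (Fin n → A) →ₗ[A] L
  h : π ∘ₗ i = LinearMap.id

namespace Split

variable {A : Type u} [CommRing A] {L : Type u} [LieRing L] [LieAlgebra A L]

lemma nonempty [Module.Finite A L] [Module.Projective A L] : Nonempty (Split A L) := by
  obtain ⟨n, i, π, h⟩ := exists_split_free (A := A) (M := L)
  exact ⟨⟨n, i, π, h⟩⟩

variable (S : Split A L)

/-- `x ↦ i ∘ ad (π x) ∘ π` -/
noncomputable def Φ : (Fin S.n → A) →ₗ[A] Module.End A (Fin S.n → A) where
  toFun x := S.i ∘ₗ LieAlgebra.ad A L (S.π x) ∘ₗ S.π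
  map_add' x y := by simp [LinearMap.add_comp, LinearMap.comp_add]
  map_smul' c x := by simp [LinearMap.smul_comp, LinearMap.comp_smul]

/-- the generic characteristic polynomial -/
noncomputable def F : Polynomial (MvPolynomial (Fin S.n) A) :=
  LinearMap.polyCharpolyAux S.Φ (Pi.basisFun A (Fin S.n)) (Pi.basisFun A (Fin S.n))

variable (B : Type u) [CommRing B] [Algebra A B]

/-- the element with coordinates `y` -/
noncomputable def el (y : Fin S.n → B) : B ⊗[A] L :=
  ∑ j, y j ⊗ₜ[A] S.π (Pi.basisFun A (Fin S.n) j)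

/-- `ad z` extended by zero -/
noncomputable def Ψ (z : B ⊗[A] L) : Module.End B (B ⊗[A] (Fin S.n → A)) :=
  S.i.baseChange B ∘ₗ LieAlgebra.ad B (B ⊗[A] L) z ∘ₗ S.π.baseChange B

lemma map_F (y : Fin S.n → B) :
    S.F.map (MvPolynomial.aeval y).toRingHom = (S.Ψ B (S.el B y)).charpoly := by
  rw [F, LinearMap.polyCharpolyAux_map_aeval S.Φ (Pi.basisFun A (Fin S.n)) (Pi.basisFun A (Fin S.n)) B y]
  congr 1
  have h1 : (Algebra.TensorProduct.basis B (Pi.basisFun A (Fin S.n))).repr.symm
      (Finsupp.equivFunOnFinite.symm y) = ∑ j, y j ⊗ₜ[A] Pi.basisFun A (Fin S.n) j := by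
    have h2 : (Algebra.TensorProduct.basis B (Pi.basisFun A (Fin S.n))).repr.symm
        (Finsupp.equivFunOnFinite.symm y)
        = ∑ j, y j • Algebra.TensorProduct.basis B (Pi.basisFun A (Fin S.n)) j :=
      (Algebra.TensorProduct.basis B (Pi.basisFun A (Fin S.n))).equivFun_symm_apply y
    simp only [h2, Algebra.TensorProduct.basis_repr_symm_apply']
  rw [h1]
  ext k
  simp [Ψ, el, Φ, LinearMap.tensorProduct, map_sum, sum_lie, TensorProduct.smul_tmul',
    LinearMap.sum_apply]

lemma el_surjective (z : B ⊗[A] L) : ∃ y, S.el B y = z := by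
  let b := Algebra.TensorProduct.basis B (Pi.basisFun A (Fin S.n))
  refine ⟨b.equivFun (S.i.baseChange B z), ?_⟩
  have h1 := congrArg (S.π.baseChange B) (b.sum_equivFun (S.i.baseChange B z))
  rw [← LinearMap.comp_apply (S.π.baseChange B) (S.i.baseChange B), ← LinearMap.baseChange_comp, S.h,
    LinearMap.baseChange_id, LinearMap.id_apply, map_sum] at h1
  refine Eq.trans ?_ h1
  refine Finset.sum_congr rfl fun j _ => ?_
  simp [b, TensorProduct.smul_tmul']

lemma el_algebraMap (a : L) :
    S.el B (fun j => algebraMap A B ((Pi.basisFun A (Fin S.n)).equivFun (S.i a) j)) = 1 ⊗ₜ a := by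
  rw [el]
  simp only [Algebra.algebraMap_eq_smul_one, TensorProduct.smul_tmul, ← TensorProduct.tmul_sum]
  congr 1
  rw [show a = (S.π ∘ₗ S.i) a from by rw [S.h]; rfl, LinearMap.comp_apply]
  conv_rhs => rw [← (Pi.basisFun A (Fin S.n)).sum_equivFun (S.i a)]
  simp only [map_sum, map_smul]
  congr 1
  rw [← LinearMap.comp_apply S.π S.i a, S.h, LinearMap.id_apply]

lemma cancelLie_el (C : Type u) [CommRing C] [Algebra A C] [Algebra B C] [IsScalarTower A B C]
    (y : Fin S.n → B) :
    cancelLie (R := A) (L := L) B C ((1 : C) ⊗ₜ[B] S.el B y) = S.el C (fun j => algebraMap B C (y j)) := by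
  simp only [el, TensorProduct.tmul_sum]
  rw [← LieEquiv.coe_toLinearEquiv, map_sum]
  simp [Algebra.algebraMap_eq_smul_one]

lemma map_F_map (C : Type u) [CommRing C] [Algebra A C] [Algebra B C] [IsScalarTower A B C]
    (y : Fin S.n → B) :
    (S.F.map (MvPolynomial.aeval y).toRingHom).map (algebraMap B C)
      = S.F.map (MvPolynomial.aeval fun j => algebraMap B C (y j)).toRingHom := by
  rw [Polynomial.map_map]
  congr 1
  apply MvPolynomial.ringHom_ext
  · intro r
    simp [← IsScalarTower.algebraMap_apply]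
  · intro j
    simp

section Field

variable [Module.Finite A L] (K : Type u) [Field K] [Algebra A K]

/-- the smallest trailing degree over `K` -/
noncomputable def d : ℕ := LieAlgebra.rank K (K ⊗[A] L) + (S.n - finrank K (K ⊗[A] L))

lemma natTrailingDegree_Ψ (z : K ⊗[A] L) :
    (S.Ψ K z).charpoly.natTrailingDegree
      = finrank K (engel K z) + (S.n - finrank K (K ⊗[A] L)) := by
  let i' := S.i.baseChange K
  let π' := S.π.baseChange K
  let φ := LieAlgebra.ad K (K ⊗[A] L) z
  have hπi : π' ∘ₗ i' = LinearMap.id := by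
    simp only [π', i', ← LinearMap.baseChange_comp, S.h, LinearMap.baseChange_id]
  have hπ : Function.Surjective π' := fun x => ⟨i' x, LinearMap.congr_fun hπi x⟩
  have hi : Function.Injective i' := fun x y h => by
    have h1 := congrArg π' h
    rwa [← LinearMap.comp_apply, ← LinearMap.comp_apply, hπi] at h1
  have hpow : ∀ (k : ℕ) w, ((S.Ψ K z) ^ (k + 1)) w = i' ((φ ^ (k + 1)) (π' w)) := by
    intro k w
    rw [pow_succ, Module.End.mul_apply, pow_succ, Module.End.mul_apply]
    exact pow_conj_comp i' π' hπi φ k (φ (π' w))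
  have hE : (S.Ψ K z).maxGenEigenspace 0 = (engel K z).toSubmodule.comap π' := by
    ext w
    rw [Submodule.mem_comap, LieSubalgebra.mem_toSubmodule, mem_engel_iff, Module.End.mem_maxGenEigenspace]
    simp only [zero_smul, sub_zero]
    constructor
    · rintro ⟨k, hk⟩
      refine ⟨k + 1, hi ?_⟩
      rw [← hpow, pow_succ', Module.End.mul_apply, hk, map_zero, map_zero]
    · rintro ⟨k, hk⟩
      refine ⟨k + 1, ?_⟩
      rw [hpow, pow_succ', Module.End.mul_apply, hk, map_zero, map_zero]
  rw [← LinearMap.finrank_maxGenEigenspace_zero_eq, hE]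
  have hker : LinearMap.ker ((engel K z).toSubmodule.mkQ ∘ₗ π') = (engel K z).toSubmodule.comap π' := by
    rw [LinearMap.ker_comp, Submodule.ker_mkQ]
  have hq := ((engel K z).toSubmodule.mkQ ∘ₗ π').quotKerEquivOfSurjective
    ((Submodule.mkQ_surjective _).comp hπ)
  have h2 := hq.finrank_eq
  have h3 := Submodule.finrank_quotient_add_finrank (LinearMap.ker ((engel K z).toSubmodule.mkQ ∘ₗ π'))
  have h4 := Submodule.finrank_quotient_add_finrank (engel K z).toSubmodule
  have h5 : finrank K (K ⊗[A] (Fin S.n → A)) = S.n := by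
    rcases subsingleton_or_nontrivial A with hA | hA
    · exact absurd (hA.elim (1 : A) 0) (fun h => one_ne_zero (α := K) (by
        rw [← map_one (algebraMap A K), h, map_zero]))
    · rw [Module.finrank_baseChange, Module.finrank_fin_fun]
  have h6 : finrank K (K ⊗[A] L) ≤ S.n := h5 ▸ LinearMap.finrank_le_finrank_of_injective hi
  rw [← hker]
  have h7 : finrank K (engel K z).toSubmodule = finrank K (engel K z) := rfl
  omega

lemma natTrailingDegree_map_F (y : Fin S.n → K) :
    (S.F.map (MvPolynomial.aeval y).toRingHom).natTrailingDegree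
      = finrank K (engel K (S.el K y)) + (S.n - finrank K (K ⊗[A] L)) := by
  rw [map_F, natTrailingDegree_Ψ]

lemma coeff_eq_zero_of_lt (y : Fin S.n → K) {j : ℕ} (hj : j < S.d K) :
    (S.F.map (MvPolynomial.aeval y).toRingHom).coeff j = 0 := by
  apply Polynomial.coeff_eq_zero_of_lt_natTrailingDegree
  rw [natTrailingDegree_map_F]
  have := LieAlgebra.rank_le_finrank_engel K (S.el K y)
  unfold d at hj
  omega

lemma isRegular_el_iff (y : Fin S.n → K) :
    LieAlgebra.IsRegular K (S.el K y) ↔ (S.F.map (MvPolynomial.aeval y).toRingHom).coeff (S.d K) ≠ 0 := by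
  rw [LieAlgebra.isRegular_iff_finrank_engel_eq_rank]
  have h1 := S.natTrailingDegree_map_F K y
  have h2 := LieAlgebra.rank_le_finrank_engel K (S.el K y)
  constructor
  · intro h
    rw [d, ← h, ← h1]
    exact Polynomial.trailingCoeff_nonzero_iff_nonzero.mpr (by
      rw [map_F]; exact (LinearMap.charpoly_monic _).ne_zero)
  · intro h
    have h3 := Polynomial.natTrailingDegree_le_of_ne_zero h
    unfold d at h3
    omega

lemma d_tower (K' : Type u) [Field K'] [Algebra A K'] [Algebra K K'] [IsScalarTower A K K'] :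
    S.d K' = S.d K := by
  rw [d, d, finrank_tower K K']
  congr 1
  exact rk_tower K K'

lemma d_le : S.d K ≤ S.n := by
  have h5 := LieAlgebra.rank_le_finrank K (K ⊗[A] L)
  have h1 : Function.Surjective (S.π.baseChange K) := fun x => ⟨S.i.baseChange K x, by
    rw [← LinearMap.comp_apply, ← LinearMap.baseChange_comp, S.h, LinearMap.baseChange_id]; rfl⟩
  have h2 := LinearMap.finrank_le_finrank_of_injective (f := S.i.baseChange K) (fun x y h => by
    have h1 := congrArg (S.π.baseChange K) h
    rwa [← LinearMap.comp_apply, ← LinearMap.comp_apply, ← LinearMap.baseChange_comp, S.h,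
      LinearMap.baseChange_id] at h1)
  have : Nontrivial A := (algebraMap A K).domain_nontrivial
  have h7 : finrank K (K ⊗[A] (Fin S.n → A)) = S.n := by
    rw [Module.finrank_baseChange, Module.finrank_fin_fun]
  rw [h7] at h2
  unfold d
  omega

end Field

section Global

variable [Module.Finite A L] [Module.Projective A L]

/-- coefficients in degree below `d` lie in the prime -/
lemma coeff_F_mem (p : PrimeSpectrum A) {j : ℕ} (hj : j < S.d p.asIdeal.ResidueField)
    (m : Fin S.n →₀ ℕ) : MvPolynomial.coeff m (S.F.coeff j) ∈ p.asIdeal := by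
  let K := AlgebraicClosure p.asIdeal.ResidueField
  have h0 : MvPolynomial.map (algebraMap A K) (S.F.coeff j) = 0 := by
    apply MvPolynomial.funext
    intro y
    have h1 := S.coeff_eq_zero_of_lt K y (j := j) (by rwa [S.d_tower p.asIdeal.ResidueField K])
    rw [Polynomial.coeff_map] at h1
    rw [MvPolynomial.eval_map, map_zero]
    exact h1
  have h2 := congrArg (MvPolynomial.coeff m) h0
  rw [MvPolynomial.coeff_map, MvPolynomial.coeff_zero,
    IsScalarTower.algebraMap_apply A p.asIdeal.ResidueField K, map_eq_zero] at h2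
  exact Ideal.algebraMap_residueField_eq_zero.mp h2

/-- locally constant rank gives a locally constant `d` -/
lemma exists_d_const (hC0 : ∀ p : PrimeSpectrum A, ∃ f : A, f ∉ p.asIdeal ∧ ∀ q : PrimeSpectrum A,
      f ∉ q.asIdeal → rk A L q.asIdeal.ResidueField = rk A L p.asIdeal.ResidueField)
    (p : PrimeSpectrum A) :
    ∃ f : A, f ∉ p.asIdeal ∧ ∀ q : PrimeSpectrum A, f ∉ q.asIdeal →
      S.d q.asIdeal.ResidueField = S.d p.asIdeal.ResidueField := by
  obtain ⟨f, hf, hfr⟩ := hC0 p
  have : Module.FinitePresentation A L := Module.finitePresentation_of_projective A L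
  have hopen := (Module.isLocallyConstant_rankAtStalk (R := A) (M := L)).isOpen_fiber
    (Module.rankAtStalk (R := A) L p)
  obtain ⟨U, ⟨g, rfl⟩, hpg, hgU⟩ := PrimeSpectrum.isTopologicalBasis_basic_opens.exists_subset_of_mem_open
    (show p ∈ {q : PrimeSpectrum A | Module.rankAtStalk (R := A) L q = Module.rankAtStalk (R := A) L p} from rfl)
    hopen
  refine ⟨f * g, fun h => (p.isPrime.mem_or_mem h).elim hf hpg, fun q hq => ?_⟩
  have hq1 : f ∉ q.asIdeal := fun h => hq (q.asIdeal.mul_mem_right _ h)
  have hq2 : g ∉ q.asIdeal := fun h => hq (q.asIdeal.mul_mem_left _ h)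
  have hr : Module.rankAtStalk (R := A) L q = Module.rankAtStalk (R := A) L p := hgU hq2
  have h1 := hfr q hq1
  rw [Module.rankAtStalk_eq, Module.rankAtStalk_eq] at hr
  unfold d
  rw [rk, rk] at h1
  rw [h1]
  exact congrArg (fun t => _ + (S.n - t)) hr

end Global

end Split

end Groth.CartanRelAux
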