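import Groth.Agent.CartanRel.Field
import Groth.Prelude.Def_W4sga3xiixivxvCartan
import Mathlib.RingTheory.Support
import Mathlib.RingTheory.LocalRing.Module
import Mathlib.RingTheory.Polynomial.Nilpotent
import Mathlib.LinearAlgebra.TensorProduct.RightExactness
import Mathlib.RingTheory.Finiteness.Nilpotent
import Mathlib.RingTheory.OrzechProperty
import Mathlib.LinearAlgebra.Charpoly.Basic

/-!
# Cartan subalgebras over a ring: fibre lemmas and the Engel description
-/

universe u

open scoped TensorProduct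
open Polynomial

namespace Groth.CartanRelAux

open Module LieSubalgebra

set_option linter.unusedSectionVars false

attribute [local instance 100] LieRing.ofAssociativeRing

section Modules

variable {A : Type u} [CommRing A] {M : Type u} [AddCommGroup M] [Module A M]

lemma exists_split_free [Module.Finite A M] [Module.Projective A M] :
    ∃ (n : ℕ) (i : M →ₗ[A] (Fin n → A)) (π : (Fin n → A) →ₗ[A] M), π ∘ₗ i = LinearMap.id := by
  obtain ⟨n, π, hπ⟩ := Module.Finite.exists_fin' A M
  obtain ⟨i, hi⟩ := π.exists_rightInverse_of_surjective (LinearMap.range_eq_top.mpr hπ)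
  exact ⟨n, i, π, hi⟩

lemma pow_conj_comp {N : Type u} [AddCommGroup N] [Module A N] (i : M →ₗ[A] N) (π : N →ₗ[A] M)
    (h : π ∘ₗ i = LinearMap.id) (φ : Module.End A M) (k : ℕ) (x : M) :
    ((i ∘ₗ φ ∘ₗ π : Module.End A N) ^ k) (i x) = i ((φ ^ k) x) := by
  induction k with
  | zero => rfl
  | succ k ih =>
    rw [pow_succ', Module.End.mul_apply, ih, pow_succ', Module.End.mul_apply]
    change i (φ ((π ∘ₗ i) ((φ ^ k) x))) = _
    rw [h]
    rfl

/-- an endomorphism of a finite projective module which is nilpotent in every fibre is nilpotent -/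
lemma isNilpotent_of_fibres [Module.Finite A M] [Module.Projective A M] (φ : Module.End A M)
    (h : ∀ p : PrimeSpectrum A, IsNilpotent (φ.baseChange p.asIdeal.ResidueField)) :
    IsNilpotent φ := by
  classical
  rcases subsingleton_or_nontrivial A with hA | hA
  · have := Module.subsingleton A M
    exact ⟨1, by ext x; exact Subsingleton.elim _ _⟩
  obtain ⟨n, i, π, hπ⟩ := exists_split_free (A := A) (M := M)
  let Ψ : Module.End A (Fin n → A) := i ∘ₗ φ ∘ₗ π
  have hP : IsNilpotent (Ψ.charpoly - X ^ n) := by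
    rw [Polynomial.isNilpotent_iff]
    intro j
    rw [nilpotent_iff_mem_prime]
    intro q hq
    let p : PrimeSpectrum A := ⟨q, hq⟩
    let K := p.asIdeal.ResidueField
    have hn : IsNilpotent (Ψ.baseChange K) := by
      obtain ⟨k, hk⟩ := h p
      refine ⟨k + 1, ?_⟩
      have hmul : ∀ m : ℕ, (Ψ ^ (m + 1) : Module.End A (Fin n → A)) = i ∘ₗ (φ ^ (m + 1)) ∘ₗ π := by
        intro m
        apply LinearMap.ext
        intro x
        change (Ψ ^ (m + 1)) x = i ((φ ^ (m + 1)) (π x))
        rw [pow_succ, Module.End.mul_apply, pow_succ, Module.End.mul_apply]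
        exact pow_conj_comp i π hπ φ m (φ (π x))
      rw [← LinearMap.baseChange_pow, hmul, LinearMap.baseChange_comp, LinearMap.baseChange_comp,
        LinearMap.baseChange_pow, pow_succ, hk, zero_mul]
      simp
    have h1 := hn.charpoly_eq_X_pow_finrank
    rw [LinearMap.charpoly_baseChange, Module.finrank_baseChange, Module.finrank_fin_fun] at h1
    have h2 : (Ψ.charpoly - X ^ n).map (algebraMap A K) = 0 := by
      rw [Polynomial.map_sub, h1, Polynomial.map_pow, Polynomial.map_X, sub_self]
    have h3 := congrArg (fun P : K[X] => P.coeff j) h2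
    simp only [Polynomial.coeff_map, Polynomial.coeff_zero] at h3
    exact Ideal.algebraMap_residueField_eq_zero.mp h3
  have hΨ : IsNilpotent Ψ := by
    have h1 := hP.map (Polynomial.aeval Ψ)
    rw [map_sub, LinearMap.aeval_self_charpoly, map_pow, Polynomial.aeval_X, zero_sub,
      isNilpotent_neg_iff] at h1
    exact h1.of_pow
  obtain ⟨k, hk⟩ := hΨ
  refine ⟨k, ?_⟩
  ext x
  have h1 := pow_conj_comp i π hπ φ k x
  change (Ψ ^ k) (i x) = _ at h1
  rw [hk, LinearMap.zero_apply] at h1
  have h2 := congrArg π h1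
  rw [map_zero, ← LinearMap.comp_apply, hπ, LinearMap.id_apply] at h2
  rw [← h2, LinearMap.zero_apply]

/-- A linear map surjective on the fibre at `p` is surjective up to some `f ∉ p`. -/
lemma exists_smul_mem_range {N : Type u} [AddCommGroup N] [Module A N] [Module.Finite A N]
    (ψ : M →ₗ[A] N) (p : PrimeSpectrum A)
    (h : Function.Surjective (ψ.baseChange p.asIdeal.ResidueField)) :
    ∃ f : A, f ∉ p.asIdeal ∧ ∀ y : N, ∃ x, ψ x = f • y := by
  classical
  let K := p.asIdeal.ResidueField
  have hsub : Subsingleton (K ⊗[A] (N ⧸ LinearMap.range ψ)) := by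
    refine subsingleton_of_forall_eq 0 fun z => ?_
    have hs : Function.Surjective ((LinearMap.range ψ).mkQ.baseChange K) := by
      rw [LinearMap.baseChange_eq_ltensor]
      exact LinearMap.lTensor_surjective K (Submodule.mkQ_surjective _)
    obtain ⟨w, rfl⟩ := hs z
    obtain ⟨v, rfl⟩ := h w
    rw [← LinearMap.comp_apply, ← LinearMap.baseChange_comp, LinearMap.range_mkQ_comp,
      LinearMap.baseChange_zero, LinearMap.zero_apply]
  have hp : p ∉ Module.support A (N ⧸ LinearMap.range ψ) := by
    rw [Module.mem_support_iff_nontrivial_residueField_tensorProduct, not_nontrivial_iff_subsingleton]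
    exact hsub
  rw [Module.notMem_support_iff'] at hp
  obtain ⟨s, hs⟩ := (Module.Finite.fg_top (R := A) (M := N ⧸ LinearMap.range ψ))
  choose r hr hr0 using hp
  refine ⟨∏ z ∈ s, r z, ?_, fun y => ?_⟩
  · intro hmem
    obtain ⟨z, _, hz⟩ := (Ideal.IsPrime.prod_mem_iff (hp := p.isPrime)).mp hmem
    exact hr z hz
  · have hkill : ∀ z : N ⧸ LinearMap.range ψ, (∏ z ∈ s, r z) • z = 0 := by
      intro z
      have hz : z ∈ Submodule.span A (s : Set (N ⧸ LinearMap.range ψ)) := by rw [hs]; trivial
      induction hz using Submodule.span_induction with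
      | mem w hw =>
        rw [Finset.mem_coe] at hw
        rw [← Finset.prod_erase_mul s r hw, mul_smul, hr0, smul_zero]
      | zero => exact smul_zero _
      | add v w _ _ hv hw => rw [smul_add, hv, hw, add_zero]
      | smul c v _ hv => rw [smul_comm, hv, smul_zero]
    have := hkill (Submodule.Quotient.mk y)
    rw [← Submodule.Quotient.mk_smul, Submodule.Quotient.mk_eq_zero] at this
    exact this

lemma surjective_of_fibres {N : Type u} [AddCommGroup N] [Module A N] [Module.Finite A N]
    (ψ : M →ₗ[A] N)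
    (h : ∀ p : PrimeSpectrum A, Function.Surjective (ψ.baseChange p.asIdeal.ResidueField)) :
    Function.Surjective ψ := by
  intro y
  let I : Ideal A := (LinearMap.range ψ).comap (LinearMap.toSpanSingleton A N y)
  by_cases hI : I = ⊤
  · have : (1 : A) ∈ I := hI ▸ Submodule.mem_top
    simpa [I] using this
  · obtain ⟨m, hm, hIm⟩ := Ideal.exists_le_maximal I hI
    obtain ⟨f, hf, hfy⟩ := exists_smul_mem_range ψ ⟨m, hm.isPrime⟩ (h _)
    obtain ⟨x, hx⟩ := hfy y
    exact absurd (hIm (show f ∈ I from ⟨x, by simpa using hx⟩)) hf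

end Modules

section Fibres

variable {A : Type u} [CommRing A] {L : Type u} [LieRing L] [LieAlgebra A L]

/-- the retraction onto a submodule with projective quotient -/
lemma exists_retraction (H : Submodule A L) [Module.Projective A (L ⧸ H)] :
    ∃ r : L →ₗ[A] H, r ∘ₗ H.subtype = LinearMap.id := by
  obtain ⟨s, hs⟩ := H.mkQ.exists_rightInverse_of_surjective (Submodule.range_mkQ H)
  refine ⟨LinearMap.codRestrict H (LinearMap.id - s ∘ₗ H.mkQ) fun x => ?_, ?_⟩
  · rw [← Submodule.Quotient.mk_eq_zero H]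
    have h1 := LinearMap.congr_fun hs (H.mkQ x)
    simp only [LinearMap.comp_apply, Submodule.mkQ_apply, LinearMap.id_apply] at h1
    simp [Submodule.Quotient.mk_sub, h1]
  · ext x
    simp [(Submodule.Quotient.mk_eq_zero H).mpr x.2]

lemma finite_of_projective_quotient [Module.Finite A L] (H : Submodule A L)
    [Module.Projective A (L ⧸ H)] : Module.Finite A H := by
  obtain ⟨r, hr⟩ := exists_retraction H
  exact Module.Finite.of_surjective r fun x => ⟨x, LinearMap.congr_fun hr x⟩

lemma projective_of_projective_quotient [Module.Projective A L] (H : Submodule A L)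
    [Module.Projective A (L ⧸ H)] : Module.Projective A H := by
  obtain ⟨r, hr⟩ := exists_retraction H
  exact Module.Projective.of_split H.subtype r hr

lemma baseChange_subtype_injective (K : Type u) [CommRing K] [Algebra A K] (H : Submodule A L)
    [Module.Projective A (L ⧸ H)] : Function.Injective (H.subtype.baseChange K) := by
  obtain ⟨r, hr⟩ := exists_retraction H
  intro x y hxy
  have h1 := congrArg (r.baseChange K) hxy
  rwa [← LinearMap.comp_apply, ← LinearMap.comp_apply, ← LinearMap.baseChange_comp, hr,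
    LinearMap.baseChange_id] at h1

variable (p : PrimeSpectrum A) (H : LieSubalgebra A L)

lemma fibre_eq_range :
    SGA3t2b.fibreSubmodule p H
      = LinearMap.range (H.toSubmodule.subtype.baseChange p.asIdeal.ResidueField) := rfl

lemma tmul_mem_fibre {h : L} (hh : h ∈ H) :
    (1 : p.asIdeal.ResidueField) ⊗ₜ[A] h ∈ SGA3t2b.fibreSubmodule p H :=
  ⟨1 ⊗ₜ ⟨h, hh⟩, rfl⟩

lemma mem_fibre_iff (y : p.asIdeal.ResidueField ⊗[A] L) :
    y ∈ SGA3t2b.fibreSubmodule p H ↔ H.toSubmodule.mkQ.baseChange p.asIdeal.ResidueField y = 0 := by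
  rw [fibre_eq_range]
  exact ((lTensor_exact p.asIdeal.ResidueField (LinearMap.exact_subtype_mkQ H.toSubmodule)
    (Submodule.mkQ_surjective _)) y).symm

variable {H}

lemma bcHom_incl_mem (z : p.asIdeal.ResidueField ⊗[A] H) :
    bcHom p.asIdeal.ResidueField H.incl z ∈ SGA3t2b.fibreSubmodule p H := ⟨z, rfl⟩

lemma ad_pow_bcHom {B : Type u} [CommRing B] [Algebra A B] (z₀ z : B ⊗[A] H) (n : ℕ) :
    ((LieAlgebra.ad B (B ⊗[A] L) (bcHom B H.incl z₀)) ^ n) (bcHom B H.incl z) =
      bcHom B H.incl (((LieAlgebra.ad B (B ⊗[A] H) z₀) ^ n) z) := by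
  induction n with
  | zero => rfl
  | succ n ih =>
    rw [pow_succ', Module.End.mul_apply, ih, pow_succ', Module.End.mul_apply]
    exact (LieHom.map_lie _ _ _).symm

variable [Module.Finite A L]

/-- If the fibre of `H` is nilpotent and contains `a`, it lies in the Engel subalgebra of `a`. -/
lemma fibre_le_engel (hn : LieRing.IsNilpotent (p.asIdeal.ResidueField ⊗[A] H)) {a : L} (ha : a ∈ H) :
    SGA3t2b.fibreSubmodule p H
      ≤ (engel p.asIdeal.ResidueField ((1 : p.asIdeal.ResidueField) ⊗ₜ[A] a)).toSubmodule := by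
  rintro _ ⟨z, rfl⟩
  obtain ⟨k, hk⟩ := LieModule.exists_forall_pow_toEnd_eq_zero p.asIdeal.ResidueField
    (p.asIdeal.ResidueField ⊗[A] H) (p.asIdeal.ResidueField ⊗[A] H)
  rw [LieSubalgebra.mem_toSubmodule, mem_engel_iff]
  refine ⟨k, ?_⟩
  have h1 := ad_pow_bcHom (H := H) ((1 : p.asIdeal.ResidueField) ⊗ₜ[A] (⟨a, ha⟩ : H)) z k
  have h2 : (LieAlgebra.ad p.asIdeal.ResidueField (p.asIdeal.ResidueField ⊗[A] H)
      ((1 : p.asIdeal.ResidueField) ⊗ₜ[A] (⟨a, ha⟩ : H))) ^ k = 0 := hk _
  rw [h2, LinearMap.zero_apply, map_zero] at h1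
  exact h1

lemma isNilpotent_fibre_of_le_engel [Module.Projective A (L ⧸ H.toSubmodule)]
    {x : p.asIdeal.ResidueField ⊗[A] L} (hx : LieAlgebra.IsRegular p.asIdeal.ResidueField x)
    (hle : SGA3t2b.fibreSubmodule p H ≤ (engel p.asIdeal.ResidueField x).toSubmodule) :
    LieRing.IsNilpotent (p.asIdeal.ResidueField ⊗[A] H) := by
  have := isNilpotent_engel_of_isRegular x hx
  let j : p.asIdeal.ResidueField ⊗[A] H →ₗ⁅p.asIdeal.ResidueField⁆ engel p.asIdeal.ResidueField x :=
    { toFun := fun z => ⟨bcHom p.asIdeal.ResidueField H.incl z, hle (bcHom_incl_mem p z)⟩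
      map_add' := fun a b => Subtype.ext (map_add (bcHom p.asIdeal.ResidueField H.incl) a b)
      map_smul' := fun c a => Subtype.ext (map_smul (bcHom p.asIdeal.ResidueField H.incl) c a)
      map_lie' := fun {a b} => Subtype.ext (LieHom.map_lie (bcHom p.asIdeal.ResidueField H.incl) a b) }
  have hj : Function.Injective j := fun a b h =>
    baseChange_subtype_injective p.asIdeal.ResidueField H.toSubmodule (congrArg Subtype.val h)
  exact hj.lieAlgebra_isNilpotent

variable (H) in
/-- `ad a` on `L ⧸ H`, for `a ∈ H`. -/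
noncomputable def adQuot (a : L) (ha : a ∈ H) : Module.End A (L ⧸ H.toSubmodule) :=
  Submodule.mapQ _ _ (LieAlgebra.ad A L a) fun _ hx => H.lie_mem ha hx

lemma adQuot_mk (a : L) (ha : a ∈ H) (z : L) :
    adQuot H a ha (Submodule.Quotient.mk z) = Submodule.Quotient.mk ⁅a, z⁆ := rfl

lemma mkQ_ad (a : L) (ha : a ∈ H) (K : Type u) [CommRing K] [Algebra A K] (y : K ⊗[A] L) :
    H.toSubmodule.mkQ.baseChange K (LieAlgebra.ad K (K ⊗[A] L) (1 ⊗ₜ a) y) =
      (adQuot H a ha).baseChange K (H.toSubmodule.mkQ.baseChange K y) := by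
  rw [ad_one_tmul, ← LinearMap.comp_apply, ← LinearMap.baseChange_comp, ← LinearMap.comp_apply,
    ← LinearMap.baseChange_comp]
  rfl

lemma mkQ_ad_pow (a : L) (ha : a ∈ H) (K : Type u) [CommRing K] [Algebra A K] (n : ℕ) (y : K ⊗[A] L) :
    H.toSubmodule.mkQ.baseChange K (((LieAlgebra.ad K (K ⊗[A] L) (1 ⊗ₜ a)) ^ n) y) =
      (((adQuot H a ha).baseChange K) ^ n) (H.toSubmodule.mkQ.baseChange K y) := by
  induction n generalizing y with
  | zero => rfl
  | succ n ih =>
    rw [pow_succ, Module.End.mul_apply, ih, mkQ_ad a ha, pow_succ, Module.End.mul_apply]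

/-- If `ad a` is bijective on the fibre of `L ⧸ H` then the fibre of `H` contains the Engel subalgebra. -/
lemma engel_le_fibre (a : L) (ha : a ∈ H)
    (hsurj : Function.Surjective ((adQuot H a ha).baseChange p.asIdeal.ResidueField)) :
    (engel p.asIdeal.ResidueField ((1 : p.asIdeal.ResidueField) ⊗ₜ[A] a)).toSubmodule
      ≤ SGA3t2b.fibreSubmodule p H := by
  have hinj : Function.Injective ((adQuot H a ha).baseChange p.asIdeal.ResidueField) :=
    OrzechProperty.injective_of_surjective_endomorphism _ hsurj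
  intro y hy
  rw [LieSubalgebra.mem_toSubmodule, mem_engel_iff] at hy
  obtain ⟨n, hn⟩ := hy
  rw [mem_fibre_iff]
  have h1 := mkQ_ad_pow a ha p.asIdeal.ResidueField n y
  rw [hn, map_zero] at h1
  have h2 : Function.Injective ⇑(((adQuot H a ha).baseChange p.asIdeal.ResidueField) ^ n) := by
    rw [Module.End.coe_pow]
    exact hinj.iterate n
  exact h2 (by rw [← h1, map_zero])

/-- If the fibre of `H` is the Engel subalgebra of `a`, `ad a` is bijective on the fibre of `L ⧸ H`. -/
lemma adQuot_surjective_of_fibre_eq (a : L) (ha : a ∈ H)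
    (he : SGA3t2b.fibreSubmodule p H
      = (engel p.asIdeal.ResidueField ((1 : p.asIdeal.ResidueField) ⊗ₜ[A] a)).toSubmodule) :
    Function.Surjective ((adQuot H a ha).baseChange p.asIdeal.ResidueField) := by
  rw [← LinearMap.injective_iff_surjective, ← LinearMap.ker_eq_bot, LinearMap.ker_eq_bot']
  intro z hz
  have hs : Function.Surjective (H.toSubmodule.mkQ.baseChange p.asIdeal.ResidueField) :=
    LinearMap.lTensor_surjective p.asIdeal.ResidueField (Submodule.mkQ_surjective _)
  obtain ⟨y, rfl⟩ := hs z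
  rw [← mkQ_ad a ha, ← mem_fibre_iff, he, LieSubalgebra.mem_toSubmodule, mem_engel_iff] at hz
  obtain ⟨n, hn⟩ := hz
  rw [← mem_fibre_iff, he, LieSubalgebra.mem_toSubmodule, mem_engel_iff]
  exact ⟨n + 1, by rw [pow_succ, Module.End.mul_apply]; exact hn⟩

/-- The fibre of a relative Cartan subalgebra containing `a`, at a point where `a` is regular. -/
lemma fibre_eq_engel (hH : SGA3t2b.IsCartanRel H) {a : L} (ha : a ∈ H)
    (hr : LieAlgebra.IsRegular p.asIdeal.ResidueField ((1 : p.asIdeal.ResidueField) ⊗ₜ[A] a)) :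
    SGA3t2b.fibreSubmodule p H
      = (engel p.asIdeal.ResidueField ((1 : p.asIdeal.ResidueField) ⊗ₜ[A] a)).toSubmodule := by
  refine Submodule.eq_of_le_of_finrank_le (fibre_le_engel p (hH.2 p).1 ha) ?_
  rw [(hH.2 p).2.2]
  exact ((LieAlgebra.isRegular_iff_finrank_engel_eq_rank _ _).mp hr).le

end Fibres

section Engel

variable {A : Type u} [CommRing A] {L : Type u} [LieRing L] [LieAlgebra A L] [Module.Finite A L]
  [Module.Projective A L]

lemma le_engel_of_cartan {H : LieSubalgebra A L} (hH : SGA3t2b.IsCartanRel H) {a : L} (ha : a ∈ H) :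
    H ≤ engel A a := by
  have := hH.1
  have := finite_of_projective_quotient H.toSubmodule
  have := projective_of_projective_quotient H.toSubmodule
  have hnil : IsNilpotent (LieAlgebra.ad A H (⟨a, ha⟩ : H)) := by
    apply isNilpotent_of_fibres
    intro p
    have := (hH.2 p).1
    obtain ⟨k, hk⟩ := LieModule.exists_forall_pow_toEnd_eq_zero p.asIdeal.ResidueField
      (p.asIdeal.ResidueField ⊗[A] H) (p.asIdeal.ResidueField ⊗[A] H)
    refine ⟨k, ?_⟩
    rw [← ad_one_tmul]
    exact hk _
  obtain ⟨k, hk⟩ := hnil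
  intro y hy
  rw [mem_engel_iff]
  refine ⟨k, ?_⟩
  rw [← LieSubalgebra.coe_ad_pow A L H ⟨a, ha⟩ ⟨y, hy⟩ k, hk]
  rfl

lemma adQuot_bijective_of_cartan {H : LieSubalgebra A L} (hH : SGA3t2b.IsCartanRel H) {a : L}
    (ha : a ∈ H) (hr : SGA3t2b.IsQuasiRegular A L a) : Function.Bijective (adQuot H a ha) := by
  have hs : Function.Surjective (adQuot H a ha) :=
    surjective_of_fibres _ fun p => adQuot_surjective_of_fibre_eq p a ha (fibre_eq_engel p hH ha (hr p))
  exact ⟨OrzechProperty.injective_of_surjective_endomorphism _ hs, hs⟩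

/-- A relative Cartan subalgebra containing a quasi-regular element is its Engel subalgebra. -/
lemma eq_engel_of_cartan {H : LieSubalgebra A L} (hH : SGA3t2b.IsCartanRel H) {a : L}
    (ha : a ∈ H) (hr : SGA3t2b.IsQuasiRegular A L a) : H = engel A a := by
  refine le_antisymm (le_engel_of_cartan hH ha) fun y hy => ?_
  rw [mem_engel_iff] at hy
  obtain ⟨n, hn⟩ := hy
  have h1 : ∀ m : ℕ, ((adQuot H a ha) ^ m) (Submodule.Quotient.mk y) =
      Submodule.Quotient.mk (((LieAlgebra.ad A L a) ^ m) y) := by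
    intro m
    induction m with
    | zero => rfl
    | succ m ih => rw [pow_succ', Module.End.mul_apply, ih, pow_succ', Module.End.mul_apply]; rfl
  have h2 : Function.Injective ⇑((adQuot H a ha) ^ n) := by
    rw [Module.End.coe_pow]
    exact (adQuot_bijective_of_cartan hH ha hr).1.iterate n
  have h3 : Submodule.Quotient.mk y = (0 : L ⧸ H.toSubmodule) :=
    h2 (by rw [h1, hn, map_zero]; rfl)
  exact (Submodule.Quotient.mk_eq_zero _).mp h3

/-- The Engel subalgebra of a quasi-regular element is Cartan as soon as it is a direct summand on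
whose complement `ad a` is surjective. -/
lemma isCartanRel_engel {a : L} (hr : SGA3t2b.IsQuasiRegular A L a)
    (hproj : Module.Projective A (L ⧸ (engel A a).toSubmodule))
    (hsurj : ∀ y : L, ∃ z : L, ⁅a, z⁆ - y ∈ engel A a) :
    SGA3t2b.IsCartanRel (engel A a) := by
  set H := engel A a with hHdef
  have ha : a ∈ H := self_mem_engel A a
  have := hproj
  have := finite_of_projective_quotient H.toSubmodule
  refine ⟨hproj, fun p => ?_⟩
  obtain ⟨k, hk⟩ : IsNilpotent (LieAlgebra.ad A H (⟨a, ha⟩ : H)) := by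
    rw [Module.End.isNilpotent_iff_of_finite]
    intro z
    obtain ⟨n, hn⟩ := (mem_engel_iff A a z).mp z.2
    refine ⟨n, Subtype.ext ?_⟩
    rw [LieSubalgebra.coe_ad_pow A L H ⟨a, ha⟩ z n]
    exact hn
  have hle : SGA3t2b.fibreSubmodule p H
      ≤ (engel p.asIdeal.ResidueField ((1 : p.asIdeal.ResidueField) ⊗ₜ[A] a)).toSubmodule := by
    rintro _ ⟨z, rfl⟩
    rw [LieSubalgebra.mem_toSubmodule, mem_engel_iff]
    refine ⟨k, ?_⟩
    have h1 := ad_pow_bcHom (H := H) ((1 : p.asIdeal.ResidueField) ⊗ₜ[A] (⟨a, ha⟩ : H)) z k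
    rw [ad_one_tmul (R := A) (L := H), ← LinearMap.baseChange_pow, hk, LinearMap.baseChange_zero,
      LinearMap.zero_apply, map_zero] at h1
    exact h1
  have hs : Function.Surjective ((adQuot H a ha).baseChange p.asIdeal.ResidueField) := by
    apply LinearMap.lTensor_surjective
    intro y
    obtain ⟨y, rfl⟩ := Submodule.Quotient.mk_surjective _ y
    obtain ⟨z, hz⟩ := hsurj y
    exact ⟨Submodule.Quotient.mk z, (Submodule.Quotient.eq _).mpr hz⟩
  have heq := le_antisymm hle (engel_le_fibre p a ha hs)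
  refine ⟨isNilpotent_fibre_of_le_engel p (hr p) hle, fun x hx => ?_, ?_⟩
  · rw [heq] at hx ⊢
    rw [LieSubalgebra.mem_toSubmodule, ← normalizer_engel, LieSubalgebra.mem_normalizer_iff]
    exact fun y hy => hx y hy
  · rw [heq]
    exact (LieAlgebra.isRegular_iff_finrank_engel_eq_rank _ _).mp (hr p)

end Engel

end Groth.CartanRelAux
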