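import Groth.Agent.CartanRel.Generic
import Mathlib.RingTheory.Etale.Pi
import Mathlib.RingTheory.Flat.FaithfullyFlat.Algebra
import Mathlib.RingTheory.Smooth.Flat
import Mathlib.RingTheory.Spectrum.Prime.Chevalley
import Mathlib.RingTheory.Localization.BaseChange

/-!
# Fitting splitting for quasi-regular elements; auxiliary lemmas for the rows
-/

universe u

open scoped TensorProduct
open Polynomial

namespace Groth.CartanRelAux

open Module LieSubalgebra

set_option linter.unusedSectionVars false

attribute [local instance 100] LieRing.ofAssociativeRing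

variable {A : Type u} [CommRing A] {L : Type u} [LieRing L] [LieAlgebra A L]

lemma exists_smul_eq_tmul {M : Type u} [AddCommGroup M] [Module A M] (p : PrimeSpectrum A)
    (x : p.asIdeal.ResidueField ⊗[A] M) :
    ∃ s : A, s ∉ p.asIdeal ∧ ∃ m : M,
      algebraMap A p.asIdeal.ResidueField s • x = (1 : p.asIdeal.ResidueField) ⊗ₜ[A] m := by
  induction x using TensorProduct.induction_on with
  | zero => exact ⟨1, p.asIdeal.one_notMem, 0, by simp⟩
  | tmul c m =>
    obtain ⟨⟨b, ⟨s, hs⟩⟩, h⟩ := IsLocalization.surj (nonZeroDivisors (A ⧸ p.asIdeal)) c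
    obtain ⟨b, rfl⟩ := Ideal.Quotient.mk_surjective b
    obtain ⟨s, rfl⟩ := Ideal.Quotient.mk_surjective s
    rw [mem_nonZeroDivisors_iff_ne_zero, ne_eq, Ideal.Quotient.eq_zero_iff_mem] at hs
    simp only [Ideal.algebraMap_quotient_residueField_mk] at h
    refine ⟨s, hs, b • m, ?_⟩
    rw [TensorProduct.smul_tmul', smul_eq_mul, mul_comm, h, TensorProduct.tmul_smul,
      TensorProduct.smul_tmul', Algebra.algebraMap_eq_smul_one]
  | add u v hu hv =>
    obtain ⟨s, hs, m, hm⟩ := hu
    obtain ⟨t, ht, m', hm'⟩ := hv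
    refine ⟨s * t, fun h => (p.isPrime.mem_or_mem h).elim hs ht, t • m + s • m', ?_⟩
    have h1 : ∀ (r : A) (w : M), (1 : p.asIdeal.ResidueField) ⊗ₜ[A] (r • w)
        = algebraMap A p.asIdeal.ResidueField r • ((1 : p.asIdeal.ResidueField) ⊗ₜ[A] w) := by
      intro r w
      rw [algebraMap_smul, TensorProduct.tmul_smul]
    rw [TensorProduct.tmul_add, h1, h1, ← hm, ← hm', smul_smul, smul_smul, ← map_mul, ← map_mul,
      smul_add, mul_comm t s]

lemma exists_pow_smul_eq_zero_of_pow_eq_zero [Module.Finite A L] (H : LieSubalgebra A L) {a : L}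
    (ha : a ∈ H) (f : A) (hf : ∀ v, ∃ w, adQuot H a ha w = f • v) (y : L) (hy : y ∈ engel A a) :
    ∃ n : ℕ, f ^ n • y ∈ H := by
  let B := Localization.Away f
  let ψ := (adQuot H a ha).baseChange B
  obtain ⟨u, hu⟩ := IsLocalization.Away.algebraMap_isUnit (S := B) f
  have hs : Function.Surjective ψ := by
    intro w
    induction w using TensorProduct.induction_on with
    | zero => exact ⟨0, map_zero _⟩
    | add u v hu hv =>
      obtain ⟨u', rfl⟩ := hu
      obtain ⟨v', rfl⟩ := hv
      exact ⟨u' + v', map_add _ _ _⟩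
    | tmul c v =>
      obtain ⟨w, hw⟩ := hf v
      refine ⟨(c * (u⁻¹ : Bˣ)) ⊗ₜ w, ?_⟩
      rw [LinearMap.baseChange_tmul, hw, ← TensorProduct.smul_tmul, Algebra.smul_def, ← hu,
        mul_left_comm, Units.mul_inv, mul_one]
  have hi : Function.Injective ψ := OrzechProperty.injective_of_surjective_endomorphism ψ hs
  obtain ⟨m, hm⟩ := (mem_engel_iff A a y).mp hy
  have h1 := mkQ_ad_pow (H := H) a ha B m ((1 : B) ⊗ₜ[A] y)
  rw [ad_one_tmul, ← LinearMap.baseChange_pow, LinearMap.baseChange_tmul, hm,
    TensorProduct.tmul_zero, map_zero, LinearMap.baseChange_tmul] at h1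
  have h2 : Function.Injective ⇑(ψ ^ m) := by
    rw [Module.End.coe_pow]
    exact hi.iterate m
  have h3 : TensorProduct.mk A B (L ⧸ H.toSubmodule) 1 (H.toSubmodule.mkQ y)
      = TensorProduct.mk A B (L ⧸ H.toSubmodule) 1 0 := by
    rw [map_zero]
    exact h2 (by rw [map_zero]; exact h1.symm)
  obtain ⟨⟨c, n, rfl⟩, hc⟩ := IsLocalizedModule.exists_of_eq (S := Submonoid.powers f) h3
  refine ⟨n, (Submodule.Quotient.mk_eq_zero _).mp ?_⟩
  simpa [Submonoid.smul_def] using hc

lemma exists_isRegular_nhds [Module.Finite A L] [Module.Projective A L]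
    (hC0 : ∀ p : PrimeSpectrum A, ∃ f : A, f ∉ p.asIdeal ∧ ∀ q : PrimeSpectrum A, f ∉ q.asIdeal →
      rk A L q.asIdeal.ResidueField = rk A L p.asIdeal.ResidueField)
    (p : PrimeSpectrum A)
    (hp : ∃ x : p.asIdeal.ResidueField ⊗[A] L, LieAlgebra.IsRegular p.asIdeal.ResidueField x) :
    ∃ f : A, f ∉ p.asIdeal ∧ ∃ a : L, ∀ q : PrimeSpectrum A, f ∉ q.asIdeal →
      LieAlgebra.IsRegular q.asIdeal.ResidueField ((1 : q.asIdeal.ResidueField) ⊗ₜ[A] a) := by
  obtain ⟨x, hx⟩ := hp
  obtain ⟨s, hs, a, hsa⟩ := exists_smul_eq_tmul p x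
  have hpa : LieAlgebra.IsRegular p.asIdeal.ResidueField ((1 : p.asIdeal.ResidueField) ⊗ₜ[A] a) := by
    have h1 := (isRegular_smul (c := algebraMap A p.asIdeal.ResidueField s)
      (fun h => hs (Ideal.algebraMap_residueField_eq_zero.mp h)) x).mpr hx
    rwa [hsa] at h1
  obtain ⟨S⟩ := Split.nonempty (A := A) (L := L)
  obtain ⟨f, hf, hd⟩ := S.exists_d_const hC0 p
  let y₀ : Fin S.n → A := fun j => (Pi.basisFun A (Fin S.n)).equivFun (S.i a) j
  let c : A := (S.F.map (MvPolynomial.aeval y₀).toRingHom).coeff (S.d p.asIdeal.ResidueField)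
  have key : ∀ q : PrimeSpectrum A, f ∉ q.asIdeal →
      (LieAlgebra.IsRegular q.asIdeal.ResidueField ((1 : q.asIdeal.ResidueField) ⊗ₜ[A] a) ↔
        c ∉ q.asIdeal) := by
    intro q hq
    rw [← S.el_algebraMap q.asIdeal.ResidueField a, S.isRegular_el_iff, ← S.map_F_map A _ y₀,
      Polynomial.coeff_map, hd q hq, ne_eq, Ideal.algebraMap_residueField_eq_zero]
  refine ⟨f * c, fun h => (p.isPrime.mem_or_mem h).elim hf ((key p hf).mp hpa), a, fun q hq => ?_⟩
  exact (key q fun h => hq (q.asIdeal.mul_mem_right _ h)).mpr fun h => hq (q.asIdeal.mul_mem_left _ h)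

/-- Over a reduced base with locally constant rank, every quasi-regular element of any base change has a
direct summand Engel subalgebra on whose complement it acts surjectively. -/
lemma engel_split_of_locally_const [Module.Finite A L] [Module.Projective A L] [IsReduced A]
    (hC0 : ∀ p : PrimeSpectrum A, ∃ f : A, f ∉ p.asIdeal ∧ ∀ q : PrimeSpectrum A, f ∉ q.asIdeal →
      rk A L q.asIdeal.ResidueField = rk A L p.asIdeal.ResidueField)
    {B : Type u} [CommRing B] [Algebra A B] (a' : B ⊗[A] L)
    (ha' : SGA3t2b.IsQuasiRegular B (B ⊗[A] L) a') :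
    Module.Projective B ((B ⊗[A] L) ⧸ (engel B a').toSubmodule) ∧
      ∀ y : B ⊗[A] L, ∃ z, ⁅a', z⁆ - y ∈ engel B a' := by
  classical
  obtain ⟨S⟩ := Split.nonempty (A := A) (L := L)
  obtain ⟨y, rfl⟩ := S.el_surjective B a'
  set φ : Module.End B (B ⊗[A] L) := LieAlgebra.ad B (B ⊗[A] L) (S.el B y)
  let P : B[X] := S.F.map (MvPolynomial.aeval y).toRingHom
  obtain ⟨N, hN⟩ : ∃ N, N = S.n + 1 := ⟨_, rfl⟩
  have hP : aeval φ P = 0 := by
    have hi : Function.Injective (S.i.baseChange B) := fun u v h => by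
      have h1 := congrArg (S.π.baseChange B) h
      rwa [← LinearMap.comp_apply, ← LinearMap.comp_apply, ← LinearMap.baseChange_comp, S.h,
        LinearMap.baseChange_id] at h1
    have hπ : S.π.baseChange B ∘ₗ S.i.baseChange B = LinearMap.id := by
      rw [← LinearMap.baseChange_comp, S.h, LinearMap.baseChange_id]
    have hgen : ∀ (Q : B[X]) (w : B ⊗[A] L),
        aeval (S.Ψ B (S.el B y)) Q (S.i.baseChange B w) = S.i.baseChange B (aeval φ Q w) := by
      intro Q w
      induction Q using Polynomial.induction_on' with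
      | add Q R hQ hR => simp [map_add, hQ, hR]
      | monomial k c =>
        simp only [aeval_monomial, Module.End.mul_apply, Module.algebraMap_end_apply, map_smul]
        rw [show ((S.Ψ B (S.el B y)) ^ k) (S.i.baseChange B w) = S.i.baseChange B ((φ ^ k) w) from
          pow_conj_comp _ _ hπ φ k w]
    apply LinearMap.ext
    intro w
    apply hi
    rw [← hgen, show P = (S.Ψ B (S.el B y)).charpoly from S.map_F B y, LinearMap.aeval_self_charpoly,
      LinearMap.zero_apply, LinearMap.zero_apply, map_zero]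
  let I : Ideal B :=
    { carrier := {t | ∃ G : B[X], aeval φ (C t * X ^ N) = aeval φ (X ^ (2 * N) * G)}
      zero_mem' := ⟨0, by simp⟩
      add_mem' := by
        rintro u v ⟨G, hG⟩ ⟨G', hG'⟩
        exact ⟨G + G', by rw [C_add, add_mul, map_add, hG, hG', mul_add, map_add]⟩
      smul_mem' := by
        rintro c v ⟨G, hG⟩
        refine ⟨C c * G, ?_⟩
        rw [smul_eq_mul, C_mul, mul_assoc, map_mul, hG, ← map_mul]
        congr 1
        ring }
  obtain ⟨G, hG⟩ : (1 : B) ∈ I := by
    rw [← Ideal.eq_top_iff_one]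
    by_contra hI
    obtain ⟨m, hm, hIm⟩ := Ideal.exists_le_maximal I hI
    let q : PrimeSpectrum B := ⟨m, hm.isPrime⟩
    let p := PrimeSpectrum.comap (algebraMap A B) q
    obtain ⟨f, hf, hd⟩ := S.exists_d_const hC0 p
    let d := S.d p.asIdeal.ResidueField
    have hFz : ∀ j < d, f • S.F.coeff j = 0 := by
      intro j hj
      ext k
      rw [MvPolynomial.coeff_smul, MvPolynomial.coeff_zero, smul_eq_mul]
      refine IsNilpotent.eq_zero (nilpotent_iff_mem_prime.mpr fun r hr => ?_)
      by_cases hfr : f ∈ r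
      · exact Ideal.mul_mem_right _ _ hfr
      · exact Ideal.mul_mem_left _ _ (S.coeff_F_mem ⟨r, hr⟩ (by rwa [hd ⟨r, hr⟩ hfr]) k)
    have hdvd : X ^ d ∣ C (algebraMap A B f) * P := by
      rw [Polynomial.X_pow_dvd_iff]
      intro j hj
      rw [Polynomial.coeff_C_mul, Polynomial.coeff_map]
      change algebraMap A B f * MvPolynomial.aeval y (S.F.coeff j) = 0
      rw [← Algebra.smul_def, ← map_smul, hFz j hj, map_zero]
    obtain ⟨Q, hQ⟩ := hdvd
    let t := algebraMap A B f * P.coeff d
    have hQ0 : Q.coeff 0 = t := by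
      have h1 := congrArg (fun R : B[X] => R.coeff (0 + d)) hQ
      beta_reduce at h1
      rw [Polynomial.coeff_X_pow_mul, Polynomial.coeff_C_mul, zero_add] at h1
      exact h1.symm
    have ht : t ∉ m := by
      intro h
      rcases hm.isPrime.mem_or_mem h with h | h
      · exact hf h
      · obtain ⟨_, _⟩ := exists_residueField_tower (A := A) q
        have h1 := ha' q
        rw [← isRegular_equiv (cancelLie (R := A) (L := L) B q.asIdeal.ResidueField), S.cancelLie_el,
          S.isRegular_el_iff, ← S.map_F_map B _ y, Polynomial.coeff_map,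
          S.d_tower p.asIdeal.ResidueField q.asIdeal.ResidueField] at h1
        exact h1 (Ideal.algebraMap_residueField_eq_zero.mpr h)
    let G₀ : B[X] := -Q.divX
    have h0 : aeval φ (C t * X ^ d) = aeval φ (X ^ (d + 1) * G₀) := by
      rw [← sub_eq_zero, ← map_sub]
      have : C t * X ^ d - X ^ (d + 1) * G₀ = C (algebraMap A B f) * P := by
        rw [hQ]
        conv_rhs => rw [← X_mul_divX_add Q, hQ0]
        simp only [G₀]
        ring
      rw [this, map_mul, hP, mul_zero]
    have hk : ∀ k : ℕ, aeval φ (C t ^ k * X ^ d) = aeval φ (X ^ (d + k) * G₀ ^ k) := by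
      intro k
      induction k with
      | zero => simp
      | succ k ih =>
        calc aeval φ (C t ^ (k + 1) * X ^ d) = aeval φ (C t ^ k) * aeval φ (C t * X ^ d) := by
              rw [← map_mul]; congr 1; ring
          _ = aeval φ (C t ^ k * X ^ d) * aeval φ (X * G₀) := by
              rw [h0, ← map_mul, ← map_mul]; congr 1; ring
          _ = aeval φ (X ^ (d + (k + 1)) * G₀ ^ (k + 1)) := by
              rw [ih, ← map_mul]; congr 1; ring
    have hdN : d ≤ N := hN ▸ le_trans (S.d_le _) (Nat.le_succ _)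
    refine ht (hm.isPrime.mem_of_pow_mem N (hIm ⟨G₀ ^ N, ?_⟩))
    calc aeval φ (C (t ^ N) * X ^ N) = aeval φ (C t ^ N * X ^ d) * aeval φ (X ^ (N - d)) := by
          rw [← map_mul, C_pow, mul_assoc, ← pow_add, Nat.add_sub_cancel' hdN]
      _ = aeval φ (X ^ (2 * N) * G₀ ^ N) := by
          rw [hk, ← map_mul, show (2 * N) = (d + N) + (N - d) by omega, pow_add X (d + N)]
          congr 1
          ring
  rw [C_1, one_mul] at hG
  let e : Module.End B (B ⊗[A] L) := aeval φ (X ^ N * G)
  have he : e * φ ^ N = φ ^ N := by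
    rw [show φ ^ N = aeval φ (X ^ N : B[X]) by simp]
    conv_rhs => rw [hG]
    rw [← map_mul]
    congr 1
    ring
  have he2 : e * e = e := by
    have h1 : e = φ ^ N * aeval φ G := by simp [e]
    conv_lhs => arg 2; rw [h1]
    rw [← mul_assoc, he, ← h1]
  have hmem : ∀ w, w ∈ engel B (S.el B y) ↔ e w = 0 := by
    intro w
    rw [mem_engel_iff]
    constructor
    · rintro ⟨k, hk⟩
      have h1 : ∀ j : ℕ, e = aeval φ (X ^ (N * j) * G ^ j) * e := by
        intro j
        induction j with
        | zero => simp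
        | succ j ih =>
          calc e = aeval φ (X ^ (N * j) * G ^ j) * e := ih
            _ = aeval φ (X ^ (N * j) * G ^ j) * (e * e) := by rw [he2]
            _ = _ := by
              simp only [e, ← map_mul]
              congr 1
              ring
      have hNk : N * (k + 1) = (N * (k + 1) - k) + k := by
        have : k ≤ N * (k + 1) := le_trans (Nat.le_succ k) (Nat.le_mul_of_pos_left _ (hN ▸ Nat.succ_pos _))
        omega
      rw [h1 (k + 1)]
      simp only [e, ← map_mul]
      rw [show X ^ (N * (k + 1)) * G ^ (k + 1) * (X ^ N * G)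
          = (X ^ (N * (k + 1) - k) * G ^ (k + 1) * (X ^ N * G)) * X ^ k by
            conv_lhs => rw [hNk, pow_add]
            ring,
        map_mul, Module.End.mul_apply, map_pow, aeval_X, hk, map_zero]
    · intro hw
      refine ⟨N, ?_⟩
      rw [← he, show e * φ ^ N = φ ^ N * e from by
        rw [show φ ^ N = aeval φ (X ^ N : B[X]) by simp, ← map_mul, ← map_mul, mul_comm],
        Module.End.mul_apply, hw, map_zero]
  constructor
  · have hker : (engel B (S.el B y)).toSubmodule = LinearMap.ker e := by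
      ext w
      rw [LieSubalgebra.mem_toSubmodule, hmem, LinearMap.mem_ker]
    rw [hker]
    have : Module.Projective B (LinearMap.range e) :=
      Module.Projective.of_split (LinearMap.range e).subtype e.rangeRestrict (by
        ext ⟨w, v, rfl⟩
        exact LinearMap.congr_fun he2 v)
    exact Module.Projective.of_equiv e.quotKerEquivRange.symm
  · intro w
    refine ⟨aeval φ (X ^ S.n * G) w, (hmem _).mpr ?_⟩
    have h1 : φ * aeval φ (X ^ S.n * G) = e := by
      conv_lhs => arg 1; rw [← aeval_X (R := B) φ]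
      rw [← map_mul]
      simp only [e, hN]
      congr 1
      ring
    have h2 : ⁅S.el B y, aeval φ (X ^ S.n * G) w⁆ = e w := by
      rw [← h1]
      rfl
    rw [h2, map_sub, ← Module.End.mul_apply, he2, sub_self]

end Groth.CartanRelAux
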